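import Mathlib
import Cfsg.Agent.Lib.Helper1.FittingCentralizer
import Cfsg.Agent.Lib.Helper1.CriticalExists

set_option autoImplicit false
open scoped commutatorElement

/-! Abstract group-theoretic core of the 3n/4 fixed-space bound (lead's one-page proof). -/

namespace Cfsg.Agent.Lib.Helper5.FixSp

variable {G : Type*} [Group G]

/-- an `r`-element of the Fitting subgroup lies in a normal `r`-subgroup -/
theorem exists_normal_pgroup_of_mem_fitting [Finite G] {r : ℕ} [hr : Fact r.Prime] {y : G}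
    (hy : y ∈ Cfsg.fittingSubgroup G) (hyr : y ^ r = 1) :
    ∃ R : Subgroup G, R.Normal ∧ IsPGroup r R ∧ y ∈ R := by
  haveI hFn : (Cfsg.fittingSubgroup G).Normal := Cfsg.Agent.Lib.Helper1.fittingSubgroup_normal
  haveI hnil : Group.IsNilpotent (Cfsg.fittingSubgroup G) :=
    Cfsg.Agent.Lib.Helper1.fittingSubgroup_isNilpotent
  have hall := (isNilpotent_of_finite_tfae (G := Cfsg.fittingSubgroup G)).out 0 3
  have hPall := hall.mp hnil
  obtain ⟨P⟩ : Nonempty (Sylow r (Cfsg.fittingSubgroup G)) := inferInstance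
  have hPn : (P : Subgroup (Cfsg.fittingSubgroup G)).Normal := hPall r hr P
  haveI hPc : (P : Subgroup (Cfsg.fittingSubgroup G)).Characteristic :=
    Sylow.characteristic_of_normal P hPn
  refine ⟨(P : Subgroup (Cfsg.fittingSubgroup G)).map (Cfsg.fittingSubgroup G).subtype,
    ConjAct.normal_of_characteristic_of_normal, ?_, ?_⟩
  · exact P.2.map _
  · have hz : IsPGroup r (Subgroup.zpowers (⟨y, hy⟩ : Cfsg.fittingSubgroup G)) := by
      rw [IsPGroup.iff_orderOf]
      rintro ⟨z, hz⟩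
      obtain ⟨k, rfl⟩ := Subgroup.mem_zpowers_iff.mp hz
      have h1 : ((⟨y, hy⟩ : Cfsg.fittingSubgroup G) ^ k) ^ r = 1 := by
        rw [← zpow_natCast, ← zpow_mul, mul_comm, zpow_mul, zpow_natCast]
        have : (⟨y, hy⟩ : Cfsg.fittingSubgroup G) ^ r = 1 := Subtype.ext (by simpa using hyr)
        rw [this, one_zpow]
      have h2 : orderOf (⟨(⟨y, hy⟩ : Cfsg.fittingSubgroup G) ^ k, hz⟩ :
          Subgroup.zpowers (⟨y, hy⟩ : Cfsg.fittingSubgroup G)) ∣ r := by
        apply orderOf_dvd_of_pow_eq_one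
        exact Subtype.ext (by simpa using h1)
      rcases (Nat.dvd_prime hr.out).mp h2 with h | h
      · exact ⟨0, by rw [h, pow_zero]⟩
      · exact ⟨1, by rw [h, pow_one]⟩
    obtain ⟨Q, hQ⟩ := hz.exists_le_sylow
    haveI := Sylow.unique_of_normal P hPn
    have hQP : Q = P := Subsingleton.elim _ _
    refine ⟨⟨y, hy⟩, ?_, rfl⟩
    rw [← hQP]
    exact hQ (Subgroup.mem_zpowers _)

/-- the bound inside a normal `r`-subgroup, via a critical subgroup -/
theorem two_mul_le_of_mem_pgroup [Finite G] (d : G → ℕ) (n : ℕ)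
    (h1 : ∀ x y : G, 2 * d x ≤ n + d (x⁻¹ * (y * x * y⁻¹)))
    (h3 : ∀ A : Subgroup G, A.Normal → (∀ a ∈ A, ∀ b ∈ A, a * b = b * a) →
      ∀ a ∈ A, a ≠ 1 → d a = 0)
    {r : ℕ} [hr : Fact r.Prime] (R : Subgroup G) [hRn : R.Normal] (hR : IsPGroup r R)
    {y : G} (hyR : y ∈ R) (hy1 : y ≠ 1) : 2 * d y ≤ n := by
  obtain ⟨C, hCchar, -, hcomm, hcent⟩ :=
    Cfsg.Agent.Lib.Helper1.exists_critical_subgroup (P := R) hR
  haveI := hCchar
  set Z : Subgroup R := C ⊓ Subgroup.centralizer (C : Set R) with hZ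
  haveI hZc : Z.Characteristic := by
    rw [hZ]; infer_instance
  have hAn : (Z.map R.subtype).Normal := ConjAct.normal_of_characteristic_of_normal
  have hAab : ∀ a ∈ Z.map R.subtype, ∀ b ∈ Z.map R.subtype, a * b = b * a := by
    rintro _ ⟨a, ha, rfl⟩ _ ⟨b, hb, rfl⟩
    have hb' : b ∈ Subgroup.centralizer (C : Set R) := hb.2
    have := hb' a ha.1
    have h2 : a * b = b * a := this
    simpa using congrArg (fun z : R => (z : G)) h2
  have hfix : ∀ z : R, z ∈ Z → (z : G) ≠ 1 → d (z : G) = 0 := by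
    intro z hz hz1
    exact h3 _ hAn hAab _ ⟨z, hz, rfl⟩ hz1
  set yt : R := ⟨y, hyR⟩ with hyt
  by_cases hyc : yt ∈ Subgroup.centralizer (C : Set R)
  · have hyC : yt ∈ C := hcent hyc
    have := hfix yt ⟨hyC, hyc⟩ hy1
    have h0 : d y = 0 := this
    omega
  · -- some c ∈ C does not commute with yt
    have : ∃ c ∈ C, c * yt ≠ yt * c := by
      by_contra hcon
      push_neg at hcon
      exact hyc (fun c hc => hcon c hc)
    obtain ⟨c, hc, hne⟩ := this
    set h : R := yt⁻¹ * (c * yt * c⁻¹) with hh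
    have hhZ : h ∈ Z := by
      apply hcomm
      have : h = ⁅yt⁻¹, c⁆ := by
        rw [hh, commutatorElement_def, inv_inv]
        group
      rw [this, Subgroup.commutator_comm]
      exact Subgroup.commutator_mem_commutator (Subgroup.mem_top _) hc
    have hh1 : (h : G) ≠ 1 := by
      intro h0
      apply hne
      have h0' : h = 1 := Subtype.ext h0
      have : c * yt * c⁻¹ = yt := by
        have := congrArg (fun z => yt * z) h0'
        simpa [hh, mul_assoc] using this
      calc c * yt = c * yt * c⁻¹ * c := by group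
        _ = yt * c := by rw [this]
    have hd0 := hfix h hhZ hh1
    have hval : (h : G) = y⁻¹ * ((c : G) * y * (c : G)⁻¹) := by
      simp [hh, hyt]
    have := h1 y (c : G)
    rw [← hval, hd0] at this
    omega

/-- the bound on the Fitting subgroup -/
theorem two_mul_le_of_mem_fitting [Finite G] (d : G → ℕ) (n : ℕ)
    (h1 : ∀ x y : G, 2 * d x ≤ n + d (x⁻¹ * (y * x * y⁻¹)))
    (h2 : ∀ (x : G) (k : ℕ), d x ≤ d (x ^ k))
    (h3 : ∀ A : Subgroup G, A.Normal → (∀ a ∈ A, ∀ b ∈ A, a * b = b * a) →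
      ∀ a ∈ A, a ≠ 1 → d a = 0)
    {x : G} (hx : x ∈ Cfsg.fittingSubgroup G) (hx1 : x ≠ 1) : 2 * d x ≤ n := by
  have hN : orderOf x ≠ 1 := fun h => hx1 (orderOf_eq_one_iff.mp h)
  have hNpos : 0 < orderOf x := orderOf_pos x
  set r := (orderOf x).minFac with hrdef
  haveI hr : Fact r.Prime := ⟨Nat.minFac_prime hN⟩
  have hrd : r ∣ orderOf x := Nat.minFac_dvd _
  set y := x ^ (orderOf x / r) with hy
  have hyr : y ^ r = 1 := by
    rw [hy, ← pow_mul, Nat.div_mul_cancel hrd, pow_orderOf_eq_one]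
  have hy1 : y ≠ 1 := by
    intro h0
    have hdvd : orderOf x ∣ orderOf x / r := orderOf_dvd_of_pow_eq_one h0
    have hlt : orderOf x / r < orderOf x := Nat.div_lt_self hNpos hr.out.one_lt
    have hpos : 0 < orderOf x / r := Nat.div_pos (Nat.le_of_dvd hNpos hrd) hr.out.pos
    exact absurd (Nat.le_of_dvd hpos hdvd) (by omega)
  have hyF : y ∈ Cfsg.fittingSubgroup G := Subgroup.pow_mem _ hx _
  obtain ⟨R, hRn, hR, hyR⟩ := exists_normal_pgroup_of_mem_fitting hyF hyr
  haveI := hRn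
  have := two_mul_le_of_mem_pgroup d n h1 h3 R hR hyR hy1
  have h4 := h2 x (orderOf x / r)
  rw [← hy] at h4
  omega

/-- **Abstract 3n/4 bound**: `G` finite solvable, `d` a "fixed-space dimension" function. -/
theorem four_mul_le [Finite G] [hs : Group.IsSolvable G] (d : G → ℕ) (n : ℕ)
    (h1 : ∀ x y : G, 2 * d x ≤ n + d (x⁻¹ * (y * x * y⁻¹)))
    (h2 : ∀ (x : G) (k : ℕ), d x ≤ d (x ^ k))
    (h3 : ∀ A : Subgroup G, A.Normal → (∀ a ∈ A, ∀ b ∈ A, a * b = b * a) →
      ∀ a ∈ A, a ≠ 1 → d a = 0)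
    (g : G) (hg : g ≠ 1) : 4 * d g ≤ 3 * n := by
  by_cases hgF : g ∈ Cfsg.fittingSubgroup G
  · have := two_mul_le_of_mem_fitting d n h1 h2 h3 hgF hg
    omega
  · have hcen : g ∉ Subgroup.centralizer (Cfsg.fittingSubgroup G : Set G) := fun h =>
      hgF (Cfsg.Agent.Lib.Helper1.centralizer_fittingSubgroup_le h)
    have : ∃ c ∈ Cfsg.fittingSubgroup G, c * g ≠ g * c := by
      by_contra hcon
      push_neg at hcon
      exact hcen (fun c hc => hcon c hc)
    obtain ⟨c, hc, hne⟩ := this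
    haveI hFn : (Cfsg.fittingSubgroup G).Normal := Cfsg.Agent.Lib.Helper1.fittingSubgroup_normal
    set h := g⁻¹ * (c * g * c⁻¹) with hh
    have hhF : h ∈ Cfsg.fittingSubgroup G := by
      have e : h = (g⁻¹ * c * g⁻¹⁻¹) * c⁻¹ := by rw [hh]; group
      rw [e]
      exact Subgroup.mul_mem _ (hFn.conj_mem c hc g⁻¹) (Subgroup.inv_mem _ hc)
    have hh1 : h ≠ 1 := by
      intro h0
      apply hne
      have : c * g * c⁻¹ = g := by
        have := congrArg (fun z => g * z) h0
        simpa [hh, mul_assoc] using this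
      calc c * g = c * g * c⁻¹ * c := by group
        _ = g * c := by rw [this]
    have ha := two_mul_le_of_mem_fitting d n h1 h2 h3 hhF hh1
    have hb := h1 g c
    rw [← hh] at hb
    omega

end Cfsg.Agent.Lib.Helper5.FixSp
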