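import Cfsg.Agent.Lib.Helper8.AschM2

set_option autoImplicit false

/-! Linear-algebra inputs for the 3n/4 fixed-space bound. -/

namespace Cfsg.Agent.Lib.Helper5.FixSp

open Module Matrix
open Cfsg Cfsg.Geo Cfsg.Agent.Lib.Helper8.Asch

variable {ι : Type} [Fintype ι] [DecidableEq ι] {F : Type*} [Field F]

/-- the fixed space of a matrix -/
noncomputable def fixSp (M : Matrix ι ι F) : Submodule F (ι → F) :=
  Module.End.eigenspace (Matrix.toLin' M) 1

theorem mem_fixSp {M : Matrix ι ι F} {v : ι → F} : v ∈ fixSp M ↔ M *ᵥ v = v := by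
  unfold fixSp
  rw [Module.End.mem_eigenspace_iff, one_smul, Matrix.toLin'_apply]

theorem fixSp_le_pow (g : GL ι F) (k : ℕ) :
    fixSp (g : Matrix ι ι F) ≤ fixSp ((g ^ k : GL ι F) : Matrix ι ι F) := by
  intro v hv
  rw [mem_fixSp] at hv ⊢
  induction k with
  | zero => simp
  | succ k ih =>
    rw [pow_succ, Units.val_mul, ← Matrix.mulVec_mulVec, hv, ih]

theorem finrank_fixSp_le_pow (g : GL ι F) (k : ℕ) :
    finrank F (fixSp (g : Matrix ι ι F)) ≤ finrank F (fixSp ((g ^ k : GL ι F) : Matrix ι ι F)) :=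
  Submodule.finrank_mono (fixSp_le_pow g k)

theorem finrank_fixSp_conj_ge (x y : GL ι F) :
    finrank F (fixSp (x : Matrix ι ι F)) ≤
      finrank F (fixSp ((y * x * y⁻¹ : GL ι F) : Matrix ι ι F)) := by
  have hmap : ∀ v ∈ fixSp (x : Matrix ι ι F),
      Matrix.toLin' (y : Matrix ι ι F) v ∈ fixSp ((y * x * y⁻¹ : GL ι F) : Matrix ι ι F) := by
    intro v hv
    rw [mem_fixSp] at hv ⊢
    rw [Matrix.toLin'_apply, Matrix.mulVec_mulVec, Units.val_mul, Units.val_mul, Matrix.mul_assoc,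
      Matrix.mul_assoc, ← Units.val_mul y⁻¹ y, inv_mul_cancel, Units.val_one, Matrix.mul_one,
      ← Matrix.mulVec_mulVec, hv]
  set f : fixSp (x : Matrix ι ι F) →ₗ[F] fixSp ((y * x * y⁻¹ : GL ι F) : Matrix ι ι F) :=
    (Matrix.toLin' (y : Matrix ι ι F)).restrict hmap with hf
  apply LinearMap.finrank_le_finrank_of_injective (f := f)
  intro a b hab
  have h1 : Matrix.toLin' (y : Matrix ι ι F) (a : ι → F) = Matrix.toLin' (y : Matrix ι ι F) b := by
    have := congrArg (fun z : fixSp ((y * x * y⁻¹ : GL ι F) : Matrix ι ι F) => (z : ι → F)) hab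
    simpa [hf, LinearMap.restrict_coe_apply] using this
  rw [Matrix.toLin'_apply, Matrix.toLin'_apply] at h1
  have h2 := congrArg (fun w => ((y⁻¹ : GL ι F) : Matrix ι ι F) *ᵥ w) h1
  simp only [Matrix.mulVec_mulVec, ← Units.val_mul, inv_mul_cancel, Units.val_one,
    Matrix.one_mulVec] at h2
  exact Subtype.ext h2

/-- (P2): `2 dim C(x) ≤ n + dim C(x⁻¹ (y x y⁻¹))` -/
theorem two_mul_finrank_fixSp_le (x y : GL ι F) :
    2 * finrank F (fixSp (x : Matrix ι ι F)) ≤ Fintype.card ι +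
      finrank F (fixSp ((x⁻¹ * (y * x * y⁻¹) : GL ι F) : Matrix ι ι F)) := by
  set E := fixSp (x : Matrix ι ι F) with hE
  set E' := fixSp ((y * x * y⁻¹ : GL ι F) : Matrix ι ι F) with hE'
  have hle : E ⊓ E' ≤ fixSp ((x⁻¹ * (y * x * y⁻¹) : GL ι F) : Matrix ι ι F) := by
    rintro v ⟨hv, hv'⟩
    rw [SetLike.mem_coe, mem_fixSp] at hv hv'
    rw [mem_fixSp, Units.val_mul, ← Matrix.mulVec_mulVec, hv']
    have := congrArg (fun w => ((x⁻¹ : GL ι F) : Matrix ι ι F) *ᵥ w) hv
    simp only [Matrix.mulVec_mulVec, ← Units.val_mul, inv_mul_cancel, Units.val_one,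
      Matrix.one_mulVec] at this
    exact this.symm
  have h1 := Submodule.finrank_sup_add_finrank_inf_eq E E'
  have h2 : finrank F ↥(E ⊔ E') ≤ Fintype.card ι := by
    have := Submodule.finrank_le (E ⊔ E')
    rwa [Module.finrank_fintype_fun_eq_card] at this
  have h3 := Submodule.finrank_mono hle
  have h4 := finrank_fixSp_conj_ge x y
  rw [← hE, ← hE'] at h4
  omega

/-- irreducibility in the frozen vocabulary gives `Irr` -/
theorem irr_of_actsIrreducibly {G : Subgroup (GL ι F)} (h : ActsIrreducibly (matrixSet G)) :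
    Irr (HV G) := by
  intro W hW
  apply h W
  rintro _ ⟨g, hg, rfl⟩
  rintro _ ⟨w, hw, rfl⟩
  have := hW (toV g) (mem_HV hg) w hw
  rwa [toV_val] at this

/-- (P1): nonidentity elements of an abelian normal subgroup of a primitive irreducible group
are fixed-point-free. -/
theorem fixSp_eq_bot_of_abelian_normal {G A : Subgroup (GL ι F)}
    (hirr : ActsIrreducibly (matrixSet G))
    (hprim : ∀ (m t : ℕ) (D : Fin t → Submodule F (ι → F)), 2 ≤ t → IsMDecomposition m D →
      ¬ G ≤ decompositionStabilizer D)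
    (hAG : A ≤ G) (hinv : ∀ h ∈ G, ∀ x ∈ A, h * x * h⁻¹ ∈ A)
    (hab : ∀ x ∈ A, ∀ y ∈ A, x * y = y * x) {a : GL ι F} (ha : a ∈ A) (ha1 : a ≠ 1) :
    fixSp (a : Matrix ι ι F) = ⊥ := by
  have hne : Nonempty ι := by
    by_contra hcon
    rw [not_nonempty_iff] at hcon
    apply ha1
    apply Units.ext
    ext i
    exact (IsEmpty.false i).elim
  haveI : Nontrivial (ι → F) := Function.nontrivial
  have hI : Irr (HV G) := irr_of_actsIrreducibly hirr
  have hA : ∀ u ∈ HV G, Nrm (algOf (HV A)) u := Nrm_algOf_HV hinv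
  rcases clifford (HV G) hI (algOf (HV A)) hA with hiso | ⟨t, m, D, ht, hm, hfr, hind, hsup, hperm⟩
  swap
  · exfalso
    apply hprim m t D ht ⟨ht, hm, hfr, hind, hsup⟩
    intro g hg
    obtain ⟨σ, hσ⟩ := hperm (toV g) (mem_HV hg)
    exact ⟨σ, fun i => by rw [← hσ i, toV_val]⟩
  haveI ss : IsSemisimpleModule (algOf (HV A)) (ι → F) :=
    clifford_semisimple (HV G) hI (algOf (HV A)) hA
  have hF := isFld_ZC (algOf (HV A)) hiso
  have hcomm : ∀ x ∈ algOf (HV A), ∀ y ∈ algOf (HV A), x * y = y * x := by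
    apply algOf_commute
    rintro _ ⟨x, hx, rfl⟩ _ ⟨y, hy, rfl⟩
    rw [← map_mul, ← map_mul, hab x hx y hy]
  have haA : Matrix.toLin' (a : Matrix ι ι F) ∈ algOf (HV A) := by
    have := mem_algOf (mem_HV ha)
    rwa [toV_val] at this
  have hz : Matrix.toLin' (a : Matrix ι ι F) ∈ ZC (algOf (HV A)) := by
    rw [mem_ZC]
    refine ⟨fun x hx => hcomm x hx _ haA, fun c hc => ?_⟩
    exact (mem_Cmt.mp hc _ haA).symm
  have hz1 : Matrix.toLin' (a : Matrix ι ι F) - 1 ∈ ZC (algOf (HV A)) :=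
    Subalgebra.sub_mem _ hz (Subalgebra.one_mem _)
  have hz0 : Matrix.toLin' (a : Matrix ι ι F) - 1 ≠ 0 := by
    intro h0
    apply ha1
    apply Units.ext
    have h1 : Matrix.toLin' (a : Matrix ι ι F) = Matrix.toLin' (1 : Matrix ι ι F) := by
      rw [Matrix.toLin'_one]
      exact sub_eq_zero.mp h0
    exact Matrix.toLin'.injective h1
  obtain ⟨w, hw, hzw⟩ := hF.inv _ hz1 hz0
  have hwz : w * (Matrix.toLin' (a : Matrix ι ι F) - 1) = 1 := by
    rw [hF.comm w hw _ hz1, hzw]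
  rw [eq_bot_iff]
  intro v hv
  rw [mem_fixSp] at hv
  have h0 : (Matrix.toLin' (a : Matrix ι ι F) - 1) v = 0 := by
    rw [LinearMap.sub_apply, Matrix.toLin'_apply, hv, Module.End.one_apply, sub_self]
  have := congrArg (fun f : Module.End F (ι → F) => f v) hwz
  simp only [Module.End.mul_apply, h0, map_zero, Module.End.one_apply] at this
  rw [Submodule.mem_bot]
  exact this.symm

end Cfsg.Agent.Lib.Helper5.FixSp
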