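import Cfsg.Agent.Lib.Helper5.FixSp.Group
import Cfsg.Agent.Lib.Helper5.FixSp.Linear

set_option autoImplicit false

/-! Assembly: the 3n/4 bound for primitive irreducible soluble linear groups. -/

namespace Cfsg.Agent.Lib.Helper5.FixSp

open Module Matrix
open Cfsg Cfsg.Geo

section generic
variable {K : Type*} [Group K]

theorem conj_mem_map_subtype (G : Subgroup K) (A : Subgroup G) (hAn : A.Normal) :
    ∀ h ∈ G, ∀ x ∈ A.map G.subtype, h * x * h⁻¹ ∈ A.map G.subtype := by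
  intro h hh x hx
  obtain ⟨x', hx', rfl⟩ := hx
  have h1 : (⟨h, hh⟩ : G) * x' * (⟨h, hh⟩ : G)⁻¹ ∈ A := hAn.conj_mem x' hx' ⟨h, hh⟩
  exact ⟨_, h1, rfl⟩

theorem comm_map_subtype (G : Subgroup K) (A : Subgroup G)
    (hAab : ∀ a ∈ A, ∀ b ∈ A, a * b = b * a) :
    ∀ x ∈ A.map G.subtype, ∀ y ∈ A.map G.subtype, x * y = y * x := by
  intro x hx y hy
  obtain ⟨x', hx', rfl⟩ := hx
  obtain ⟨y', hy', rfl⟩ := hy
  rw [← map_mul, ← map_mul, hAab x' hx' y' hy']

end generic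

variable {ι : Type} [Fintype ι] [DecidableEq ι] {F : Type*} [Field F]

theorem main (G : Subgroup (GL ι F)) [Finite G] [hs : Group.IsSolvable G]
    (hirr : ActsIrreducibly (matrixSet G))
    (hprim : ∀ (m t : ℕ) (D : Fin t → Submodule F (ι → F)), 2 ≤ t → IsMDecomposition m D →
      ¬ G ≤ decompositionStabilizer D)
    (g : GL ι F) (hg : g ∈ G) (hg1 : g ≠ 1) :
    4 * finrank F (fixSp (g : Matrix ι ι F)) ≤ 3 * Fintype.card ι := by
  set d : G → ℕ := fun x => finrank F (fixSp ((x : GL ι F) : Matrix ι ι F)) with hd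
  have h1 : ∀ x y : G, 2 * d x ≤ Fintype.card ι + d (x⁻¹ * (y * x * y⁻¹)) := fun x y =>
    two_mul_finrank_fixSp_le (x : GL ι F) (y : GL ι F)
  have h2 : ∀ (x : G) (k : ℕ), d x ≤ d (x ^ k) := fun x k =>
    finrank_fixSp_le_pow (x : GL ι F) k
  have h3 : ∀ A : Subgroup G, A.Normal → (∀ a ∈ A, ∀ b ∈ A, a * b = b * a) →
      ∀ a ∈ A, a ≠ 1 → d a = 0 := by
    intro A hAn hAab a ha ha1
    have haA : (a : GL ι F) ∈ A.map G.subtype := ⟨a, ha, rfl⟩
    have ha1' : (a : GL ι F) ≠ 1 := fun h0 => ha1 (Subtype.ext h0)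
    have key := fixSp_eq_bot_of_abelian_normal (G := G) (A := A.map G.subtype) hirr hprim
      (Subgroup.map_subtype_le A) (conj_mem_map_subtype G A hAn) (comm_map_subtype G A hAab)
      haA ha1'
    show finrank F (fixSp _) = 0
    rw [key]
    exact finrank_bot F _
  have hg1' : (⟨g, hg⟩ : G) ≠ 1 := fun h0 => hg1 (congrArg Subtype.val h0)
  exact four_mul_le d (Fintype.card ι) h1 h2 h3 ⟨g, hg⟩ hg1'

end Cfsg.Agent.Lib.Helper5.FixSp
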